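import Cfsg.Agent.Spor.L37M.C0
import Cfsg.Agent.Spor.L37a.Main

set_option autoImplicit false
set_option maxRecDepth 100000000
set_option Elab.async false

namespace Cfsg.Agent.Spor.L37M

theorem rels : AllP (fun w => A.isS TT w = true) (Ctx.sqRL 0 L37a.RL) :=
  show AllP (fun w => A.isS TT w = true) [[0, 0, 0], [2, 2], [4, 4], [6, 6], [8, 8], [1, 2, 1, 2, 1, 2], [1, 4, 1, 4], [1, 6, 1, 6], [1, 8, 1, 8], [3, 4, 3, 4, 3, 4, 3, 4, 3, 4, 3, 4, 3, 4, 3, 4], [3, 6, 3, 6], [3, 8, 3, 8], [5, 6, 5, 6, 5, 6], [5, 8, 5, 8], [7, 8, 7, 8, 7, 8], [8, 5, 2, 5, 2, 5, 2, 5, 2], [9, 4, 3, 4, 3, 4, 3, 4, 3]] from AllP.cons r1 (AllP.cons r2 (AllP.cons r3 (AllP.cons r4 (AllP.cons r5 (AllP.cons r6 (AllP.cons r7 (AllP.cons r8 (AllP.cons r9 (AllP.cons r10 (AllP.cons r11 (AllP.cons r12 (AllP.cons r13 (AllP.cons r14 (AllP.cons r15 (AllP.cons r16 (AllP.cons r17 (AllP.nil)))))))))))))))))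

noncomputable def X : Ctx A (ZMod 7) (Fin 3) :=
  Ctx.one A (Equiv.refl _) (by decide +kernel) (by decide +kernel) (by decide +kernel)

instance instFact7 : Fact (Nat.Prime 7) := ⟨by norm_num⟩

noncomputable def g (j : ℕ) : Matrix.ProjectiveSpecialLinearGroup (Fin 3) (ZMod 7) :=
  QuotientGroup.mk' _ (X.gen (slToMat 3 (ZMod 7)) TT j)

theorem pres : Pres 5 0 L37a.RL g :=
  (Ctx.codA_gen gensOk (Ctx.exists_SL detOk)).presQ (slToMat_inj 3) rels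

theorem g_ne : ev (atm 5 g) [0] ≠ 1 :=
  (Ctx.codA_gen gensOk (Ctx.exists_SL detOk)).neQ (b := 2) (by decide) ne

theorem card : Nat.card (Matrix.ProjectiveSpecialLinearGroup (Fin 3) (ZMod 7)) = 1876896 :=
  card_PSL_eq (ZMod.card 7) (by decide +kernel)

end Cfsg.Agent.Spor.L37M
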