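import Cfsg.Agent.Spor.L37M.D

set_option autoImplicit false
set_option maxRecDepth 100000000
set_option Elab.async false

namespace Cfsg.Agent.Spor.L37M

theorem gensOk : A.gensOk TT 5 = true := by decide +kernel

theorem detOk : A.detOk TT UU UW 5 = true := by decide +kernel

theorem r1 : A.isS TT [0, 0, 0] = true := by decide +kernel

theorem r2 : A.isS TT [2, 2] = true := by decide +kernel

theorem r3 : A.isS TT [4, 4] = true := by decide +kernel

theorem r4 : A.isS TT [6, 6] = true := by decide +kernel

theorem r5 : A.isS TT [8, 8] = true := by decide +kernel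

theorem r6 : A.isS TT [1, 2, 1, 2, 1, 2] = true := by decide +kernel

theorem r7 : A.isS TT [1, 4, 1, 4] = true := by decide +kernel

theorem r8 : A.isS TT [1, 6, 1, 6] = true := by decide +kernel

theorem r9 : A.isS TT [1, 8, 1, 8] = true := by decide +kernel

theorem r10 : A.isS TT [3, 4, 3, 4, 3, 4, 3, 4, 3, 4, 3, 4, 3, 4, 3, 4] = true := by decide +kernel

theorem r11 : A.isS TT [3, 6, 3, 6] = true := by decide +kernel

theorem r12 : A.isS TT [3, 8, 3, 8] = true := by decide +kernel

theorem r13 : A.isS TT [5, 6, 5, 6, 5, 6] = true := by decide +kernel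

theorem r14 : A.isS TT [5, 8, 5, 8] = true := by decide +kernel

theorem r15 : A.isS TT [7, 8, 7, 8, 7, 8] = true := by decide +kernel

theorem r16 : A.isS TT [8, 5, 2, 5, 2, 5, 2, 5, 2] = true := by decide +kernel

theorem r17 : A.isS TT [9, 4, 3, 4, 3, 4, 3, 4, 3] = true := by decide +kernel

theorem ne : band (Nat.blt 0 2 || Nat.blt 2 0) (A.entW TT [0, 2, 1, 3] 0 2 1) = true := by decide +kernel

end Cfsg.Agent.Spor.L37M
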