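import Cfsg.Agent.Spor.MatG

set_option autoImplicit false
set_option maxRecDepth 100000000
set_option Elab.async false
noncomputable section

namespace Cfsg.Agent.Spor.L37M

def A : Ar := ⟨7, 8, 3, 1, 1⟩
def TT : List (List Nat) := [[0x10401, 0x10104, 0x50101],
  [0x30204, 0x30402, 0x60303],
  [0x60401, 0x10104, 0x30106],
  [0x50102, 0x20201, 0x60205],
  [0x50500, 0x40305, 0x30405],
  [0x50500, 0x40305, 0x30405],
  [0x20500, 0x30305, 0x30302],
  [0x20500, 0x30305, 0x30302],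
  [0x10306, 0x30003, 0x60301],
  [0x20605, 0x60006, 0x50602]]
def UU : List (List Nat) := [[0x10401, 0x30100, 0x10000],
  [0x1, 0x50100, 0x10000],
  [0x1, 0x100, 0x10100],
  [0x1, 0x104, 0x10301],
  [0x60401, 0x20100, 0x10000],
  [0x1, 0x104, 0x10206],
  [0x1, 0x106, 0x10000],
  [0x10101, 0x50100, 0x10000],
  [0x201, 0x100, 0x10000],
  [0x1, 0x101, 0x10000],
  [0x401, 0x100, 0x10000],
  [0x1, 0x104, 0x10000],
  [0x1, 0x40100, 0x10000],
  [0x1, 0x20100, 0x10000],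
  [0x1, 0x100, 0x10200],
  [0x1, 0x103, 0x10106],
  [0x60101, 0x20100, 0x10000],
  [0x1, 0x103, 0x10601],
  [0x60401, 0x30100, 0x10000],
  [0x501, 0x100, 0x10000],
  [0x1, 0x100, 0x10400],
  [0x1, 0x104, 0x10306]]
def UW : List (List Nat) := [[0, 1, 2, 1, 2, 3], [4, 1, 2, 1, 2, 5], [6, 7, 8, 9, 10, 11, 12, 2, 13, 14, 15], [6, 16, 8, 9, 10, 11, 12, 2, 13, 14, 17], [18, 19, 9, 19, 9, 13, 2, 12, 20, 21]]

end Cfsg.Agent.Spor.L37M
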